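import Cfsg.Agent.PERM.KB.Orb

/-! A permutation group of degree `n ≥ 3` has at most `√3 ^ (n - 1)` conjugacy classes. -/

set_option autoImplicit false
open Finset

namespace CL.KB

variable {α : Type*} [Fintype α] [DecidableEq α]

/-- `L`-conjugation moves the part `X` of the coset `y K` into a set of at most `r` elements. -/
def Cov (K L : Subgroup (Equiv.Perm α)) (y : Equiv.Perm α) (X : Equiv.Perm α → Prop) (r : ℝ) : Prop :=
  ∃ R : Finset (Equiv.Perm α), (R.card : ℝ) ≤ r ∧ ∀ g, y⁻¹ * g ∈ K → X g → ∃ l ∈ L, l * g * l⁻¹ ∈ R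

abbrev st (K : Subgroup (Equiv.Perm α)) (a : α) : Subgroup (Equiv.Perm α) :=
  K ⊓ MulAction.stabilizer (Equiv.Perm α) a

def Op (K : Subgroup (Equiv.Perm α)) : Prop := ∀ (y : Equiv.Perm α) (a s : α),
  st K a = st (cj K y) s → Cov K (st K a) y (fun _ => True) (P K univ * c (orb K a).card)

def Cl (K : Subgroup (Equiv.Perm α)) : Prop := ∀ y : Equiv.Perm α,
  cj K y = K → Cov K K y (fun _ => True) (P K univ)

variable {K : Subgroup (Equiv.Perm α)} {y : Equiv.Perm α} {a s : α}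

omit [Fintype α] [DecidableEq α] in
theorem mem_st {k : Equiv.Perm α} : k ∈ st K a ↔ k ∈ K ∧ k a = a := Iff.rfl

theorem step (h : st K a = st (cj K y) s) (ih : Op (st K a)) (T : Finset α) :
    Cov K (st K a) y (fun g => g a ∈ T) (P (st K a) univ * S (st K a) T) := by
  classical
  have hh : ∀ k, k ∈ K ∧ k a = a ↔ y⁻¹ * k * y ∈ K ∧ k s = s := fun k => by
    rw [← mem_st, h, mem_st, mem_cj]
  have : ∀ D : Finset α, ∃ R : Finset (Equiv.Perm α), (R.card : ℝ) ≤ P (st K a) univ * c D.card ∧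
      ∀ g, y⁻¹ * g ∈ K → orb (st K a) (g a) = D → ∃ l ∈ st K a, l * g * l⁻¹ ∈ R := fun D => by
    by_cases hD : ∃ z, y⁻¹ * z ∈ K ∧ orb (st K a) (z a) = D
    · obtain ⟨z, hz, rfl⟩ := hD
      obtain ⟨R, hR, H⟩ := ih z (z a) s (by
        ext k
        rw [mem_st, mem_st, mem_st (K := cj _ _), mem_cj, mem_st, hh]
        have e : z⁻¹ * k * z ∈ K ↔ y⁻¹ * k * y ∈ K := by
          rw [show z⁻¹ * k * z = (y⁻¹ * z)⁻¹ * (y⁻¹ * k * y * (y⁻¹ * z)) by group,
            K.mul_mem_cancel_left (K.inv_mem hz), K.mul_mem_cancel_right hz]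
        have e' : (z⁻¹ * k * z) a = a ↔ k (z a) = z a := by
          simp [Equiv.symm_apply_eq]
        rw [e, e']
        tauto)
      refine ⟨R, hR, fun g hg e => ?_⟩
      obtain ⟨l, hl, el⟩ := mem_orb.1 (e ▸ self_mem (st K a) (z a))
      have l1 : y⁻¹ * l * y ∈ K := ((hh l).1 hl).1
      have l2 : l.symm a = a := ((st K a).inv_mem hl).2
      obtain ⟨m, hm, H⟩ := H (l * g * l⁻¹) ⟨by
        rw [show z⁻¹ * (l * g * l⁻¹) = (y⁻¹ * z)⁻¹ * ((y⁻¹ * l * y) * (y⁻¹ * g) * l⁻¹) by group]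
        exact K.mul_mem (K.inv_mem hz) (K.mul_mem (K.mul_mem l1 hg) (K.inv_mem hl.1)), by
        show (z⁻¹ * (l * g * l⁻¹)) a = a
        simp [l2, el]⟩ trivial
      exact ⟨m * l, (st K a).mul_mem hm.1 hl, by simpa [mul_assoc] using H⟩
    · exact ⟨∅, by simpa using mul_nonneg (P_pos _ _).le (zero_le_one.trans (one_le_c _)),
        fun g hg e => (hD ⟨g, hg, e⟩).elim⟩
  choose R hR H using this
  refine ⟨(T.image (orb (st K a))).biUnion R, ?_, fun g hg hT => ?_⟩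
  · rw [S, mul_sum]
    refine le_trans ?_ (sum_le_sum fun D _ => hR D)
    exact_mod_cast card_biUnion_le
  · obtain ⟨l, hl, e⟩ := H _ g hg rfl
    exact ⟨l, hl, mem_biUnion.2 ⟨_, mem_image_of_mem _ hT, e⟩⟩

theorem Cov.mono {L L' : Subgroup (Equiv.Perm α)} {X X' : Equiv.Perm α → Prop} {r r' : ℝ}
    (h : Cov K L y X r) (hL : L ≤ L') (hX : ∀ g, y⁻¹ * g ∈ K → X' g → X g) (hr : r ≤ r') :
    Cov K L' y X' r' :=
  let ⟨R, hR, H⟩ := h
  ⟨R, hR.trans hr, fun g hg e => let ⟨l, hl, e'⟩ := H g hg (hX g hg e); ⟨l, hL hl, e'⟩⟩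

theorem mem_O {g : Equiv.Perm α} (hg : y⁻¹ * g ∈ K) (a : α) : g a ∈ orb (cj K y) (y a) :=
  mem_orb.2 ⟨g * y⁻¹, mem_cj.2 (by simpa [mul_assoc] using hg), by simp⟩

theorem st_lt (h : 2 ≤ (orb K a).card) : Nat.card (st K a) < Nat.card K := by
  have := card_orb K a
  have := Nat.card_pos (α := st K a)
  nlinarith

theorem closed (ih : ∀ L : Subgroup (Equiv.Perm α), Nat.card L < Nat.card K → Cl L ∧ Op L) : Cl K := by
  classical
  intro y hy
  by_cases hs : ∃ s, 2 ≤ (orb K s).card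
  swap
  · refine ⟨{y}, by simpa using one_le_P K univ, fun g hg _ => ⟨1, K.one_mem, ?_⟩⟩
    have : y⁻¹ * g = 1 := Equiv.ext fun s => by
      have h1 : (orb K s).card ≤ 1 := by push Not at hs; exact Nat.le_of_lt_succ (hs s)
      exact card_le_one.1 h1 _ (mem_orb.2 ⟨_, hg, rfl⟩) _ (self_mem K s)
    simp [(inv_mul_eq_one.1 this).symm]
  obtain ⟨s, hs⟩ := hs
  have hst := step (K := K) (y := y) (a := s) (s := s) (by rw [hy]) (ih _ (st_lt hs)).2
  have hO : ∀ g, y⁻¹ * g ∈ K → g s ∈ orb K (y s) := fun g hg => hy ▸ mem_O hg s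
  have hyy : ∀ k, y⁻¹ * k * y ∈ K ↔ k ∈ K := fun k => by rw [← mem_cj, hy]
  by_cases hb : s ∈ orb K (y s)
  swap
  · have e : (orb K s).card = (orb K (y s)).card := by
      conv_rhs => rw [← hy, orb_cj, card_image_of_injective _ y.injective]
    exact (hst (orb K (y s))).mono inf_le_left (fun g hg _ => hO g hg)
      (out inf_le_left (fun k hk => hk.2) hb e (e ▸ hs))
  rw [← orb_eq hb] at hO
  obtain ⟨R₂, hR₂, H₂⟩ := hst (orb K s \ {s})
  have i0 : Iv (st K s) (orb K s) := (iv_orb K s).mono inf_le_left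
  obtain ⟨i1, i2, -⟩ := erase i0 (self_mem K s) fun k hk => hk.2
  have ec : (orb K s \ {s}).card + 1 = (orb K s).card := by
    rw [card_sdiff_of_subset (singleton_subset_iff.2 (self_mem K s)), card_singleton]; omega
  have i3 := (key i1).2.2 (Finset.card_pos.1 (by omega))
  have i4 := P_mono (inf_le_left : st K s ≤ K) ((iv_univ K).sdiff (iv_orb K s))
  rw [(split i0 (subset_univ _)).1, i2] at hR₂
  rw [ec] at i3
  have i5 := mul_le_mul (le_sub_iff_add_le'.2 i3) i4 (P_pos _ _).le (sub_nonneg.2 (one_le_w _))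
  have h1 : ∃ R : Finset (Equiv.Perm α), (R.card : ℝ) ≤ P K (univ \ orb K s) ∧
      ∀ g, y⁻¹ * g ∈ K → (∀ d ∈ orb K s, g d = d) → ∃ l ∈ K, l * g * l⁻¹ ∈ R := by
    by_cases hz : ∃ z, y⁻¹ * z ∈ K ∧ ∀ d ∈ orb K s, z d = d
    swap
    · exact ⟨∅, by simpa using (P_pos _ _).le, fun g hg e => (hz ⟨g, hg, e⟩).elim⟩
    obtain ⟨z, hz, ez⟩ := hz
    let N : Subgroup (Equiv.Perm α) := K ⊓ fixingSubgroup (Equiv.Perm α) (orb K s : Set α)
    have hN : ∀ k, k ∈ N ↔ k ∈ K ∧ ∀ d ∈ orb K s, k d = d := fun k => by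
      simp [N, mem_fixingSubgroup_iff]
    have hle : N ≤ st K s := fun k hk => ⟨hk.1, ((hN k).1 hk).2 s (self_mem K s)⟩
    obtain ⟨R, hR, H⟩ := (ih N ((Subgroup.card_le_of_le hle).trans_lt (st_lt hs))).1 z (by
      ext k
      rw [mem_cj, hN, hN, ← hyy k,
        show z⁻¹ * k * z = (y⁻¹ * z)⁻¹ * (y⁻¹ * k * y * (y⁻¹ * z)) by group,
        K.mul_mem_cancel_left (K.inv_mem hz), K.mul_mem_cancel_right hz]
      refine and_congr_right fun _ => forall₂_congr fun d hd => ?_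
      simp [Equiv.symm_apply_eq, ez d hd])
    refine ⟨R, hR.trans ?_, fun g hg eg => ?_⟩
    · rw [(split ((iv_orb K s).mono (inf_le_left : N ≤ K)) (subset_univ _)).1,
        P_fix fun d hd k hk => ((hN k).1 hk).2 d hd, one_mul]
      exact P_mono inf_le_left ((iv_univ K).sdiff (iv_orb K s))
    · obtain ⟨l, hl, e⟩ := H g ((hN _).2 ⟨by
        rw [show z⁻¹ * g = (y⁻¹ * z)⁻¹ * (y⁻¹ * g) by group]
        exact K.mul_mem (K.inv_mem hz) hg, fun d hd => by
        simp [Equiv.symm_apply_eq, ez d hd, eg d hd]⟩) trivial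
      exact ⟨l, hl.1, e⟩
  obtain ⟨R₁, hR₁, H₁⟩ := h1
  refine ⟨R₁ ∪ R₂, ?_, fun g hg _ => ?_⟩
  · have : ((R₁ ∪ R₂).card : ℝ) ≤ R₁.card + R₂.card := by exact_mod_cast card_union_le _ _
    rw [(split (iv_orb K s) (subset_univ _)).1, P_orb]
    linarith
  · by_cases e : ∀ d ∈ orb K s, g d = d
    · obtain ⟨l, hl, e⟩ := H₁ g hg e
      exact ⟨l, hl, mem_union_left _ e⟩
    push Not at e
    obtain ⟨d, hd, e⟩ := e
    obtain ⟨k, hk, rfl⟩ := mem_orb.1 hd
    have hg' : y⁻¹ * (k⁻¹ * g * k) ∈ K := by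
      rw [show y⁻¹ * (k⁻¹ * g * k) = (y⁻¹ * k⁻¹ * y) * (y⁻¹ * g) * k by group]
      exact K.mul_mem (K.mul_mem ((hyy _).2 (K.inv_mem hk)) hg) hk
    obtain ⟨l, hl, e⟩ := H₂ _ hg' (mem_sdiff.2 ⟨hO _ hg', by
      simpa [Equiv.symm_apply_eq] using e⟩)
    exact ⟨l * k⁻¹, K.mul_mem hl.1 (K.inv_mem hk), mem_union_right _ (by simpa [mul_assoc] using e)⟩

theorem opened (hc : Cl K) (ih : ∀ L : Subgroup (Equiv.Perm α), Nat.card L < Nat.card K → Cl L ∧ Op L) :
    Op K := by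
  intro y a s h
  have e1 : (orb (cj K y) s).card = (orb K a).card := by
    have a1 := card_orb K a
    have a2 := card_orb (cj K y) s
    rw [card_cj, ← a1] at a2
    have a3 : Nat.card (st K a) = Nat.card (st (cj K y) s) := by rw [h]
    exact Nat.eq_of_mul_eq_mul_right (Nat.card_pos (α := st K a)) (by rw [← a2, a3])
  have e2 : (orb (cj K y) (y a)).card = (orb K a).card := by
    rw [orb_cj, card_image_of_injective _ y.injective]
  have hle : st K a ≤ cj K y := h ▸ inf_le_left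
  have hfx : ∀ k ∈ st K a, k s = s := fun k hk => (h ▸ hk : k ∈ st (cj K y) s).2
  rcases (show (orb K a).card ≤ 1 ∨ 2 ≤ (orb K a).card by omega) with h1 | h2
  · have f1 : K ≤ st K a := fun k hk =>
      ⟨hk, card_le_one.1 h1 _ (mem_orb.2 ⟨_, hk, rfl⟩) _ (self_mem K a)⟩
    have f2 : cj K y ≤ st (cj K y) s := fun k hk =>
      ⟨hk, card_le_one.1 (e1 ▸ h1) _ (mem_orb.2 ⟨_, hk, rfl⟩) _ (self_mem _ s)⟩
    refine (hc y (le_antisymm ((h ▸ f2).trans inf_le_left) (f1.trans hle))).mono f1 (fun _ _ _ => trivial) ?_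
    rw [c_le (by omega), mul_one]
  refine (step h (ih _ (st_lt h2)).2 (orb (cj K y) (y a))).mono le_rfl (fun g hg _ => mem_O hg a) ?_
  rw [← P_cj K y]
  by_cases hb : s ∈ orb (cj K y) (y a)
  · have i0 := (iv_orb (cj K y) (y a)).mono hle
    obtain ⟨i1, i2, i3⟩ := erase i0 hb hfx
    have i4 := (key i1).2.1
    have ec : (orb (cj K y) (y a) \ {s}).card + 1 = (orb K a).card := by
      rw [card_sdiff_of_subset (singleton_subset_iff.2 hb), card_singleton]; omega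
    rw [ec, ← i2, ← i3] at i4
    have i5 := mul_le_mul i4 (P_mono hle ((iv_univ _).sdiff (iv_orb (cj K y) (y a)))) (P_pos _ _).le
      (mul_nonneg (zero_le_one.trans (one_le_c _)) (w_pos _).le)
    rw [(split i0 (subset_univ _)).1, (split (iv_orb (cj K y) (y a)) (subset_univ _)).1, P_orb, e2]
    linarith
  · exact (out hle hfx hb (e1.trans e2.symm) (e2 ▸ h2)).trans
      (le_mul_of_one_le_right (P_pos _ _).le (one_le_c _))

theorem both (K : Subgroup (Equiv.Perm α)) : Cl K ∧ Op K := by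
  induction hn : Nat.card K using Nat.strong_induction_on generalizing K with
  | h n ih =>
    have ih' : ∀ L : Subgroup (Equiv.Perm α), Nat.card L < Nat.card K → Cl L ∧ Op L :=
      fun L hL => ih _ (hn ▸ hL) L rfl
    exact ⟨closed ih', opened (closed ih') ih'⟩

theorem card_le_P (K : Subgroup (Equiv.Perm α)) : (Nat.card (ConjClasses K) : ℝ) ≤ P K univ := by
  classical
  obtain ⟨R, hR, H⟩ := (both K).1 1 (by ext k; simp [mem_cj])
  refine le_trans ?_ hR
  let f : R → ConjClasses K := fun r => if h : r.1 ∈ K then ConjClasses.mk ⟨r.1, h⟩ else 1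
  have hf : Function.Surjective f := fun C => by
    obtain ⟨g, rfl⟩ := ConjClasses.mk_surjective C
    obtain ⟨l, hl, e⟩ := H g (by simp) trivial
    have hm : l * g * l⁻¹ ∈ K := K.mul_mem (K.mul_mem hl g.2) (K.inv_mem hl)
    refine ⟨⟨_, e⟩, ?_⟩
    simp only [f, dif_pos hm]
    exact ConjClasses.mk_eq_mk_iff_isConj.2 (isConj_iff.2 ⟨(⟨l, hl⟩ : K), rfl⟩ : IsConj g _).symm
  have := Nat.card_le_card_of_surjective f hf
  rw [Nat.card_eq_fintype_card (α := R), Fintype.card_coe] at this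
  exact_mod_cast this

theorem main (K : Subgroup (Equiv.Perm α)) (hn : 3 ≤ Fintype.card α) :
    Nat.card (ConjClasses K) ^ 2 ≤ 3 ^ (Fintype.card α - 1) := by
  have h := (card_le_P K).trans (key (iv_univ K)).1
  rw [card_univ, w_ge hn] at h
  have := pow_le_pow_left₀ (Nat.cast_nonneg _) h 2
  rw [← pow_mul, mul_comm, pow_mul, x2] at this
  exact_mod_cast this

end CL.KB
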