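import Mathlib

/-! Weights for the class number bound of permutation groups. -/

set_option autoImplicit false

namespace CL.KB

noncomputable def x : ℝ := Real.sqrt 3

theorem x_sq : x * x = 3 := Real.mul_self_sqrt (by norm_num)
theorem x_pos : 0 < x := Real.sqrt_pos.2 (by norm_num)
theorem x_gt : 1.732 < x := by nlinarith [x_sq, x_pos]
theorem x_lt : x < 1.7321 := by nlinarith [x_sq, x_pos]
theorem x2 : x ^ 2 = 3 := by rw [pow_two, x_sq]
theorem x3 : x ^ 3 = 3 * x := by rw [pow_succ, x2]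
theorem x4 : x ^ 4 = 9 := by rw [pow_succ, x3, mul_assoc, x_sq]; norm_num
theorem x5 : x ^ 5 = 9 * x := by rw [pow_succ, x4]

noncomputable def p (m : ℕ) : ℝ := if m = 0 then 1 else if m = 2 then 2 / 3 else x / 3
noncomputable def c (m : ℕ) : ℝ := if m ≤ 2 then 1 else if m = 3 then 4 / 3 else 11 / 8
noncomputable def w (m : ℕ) : ℝ := x ^ m * p m

theorem p0 : p 0 = 1 := by simp [p]
theorem p1 : p 1 = x / 3 := by simp [p]
theorem p2 : p 2 = 2 / 3 := by simp [p]
theorem p_ge {m : ℕ} (h : 3 ≤ m) : p m = x / 3 := by rw [p, if_neg (by omega), if_neg (by omega)]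
theorem c_le {m : ℕ} (h : m ≤ 2) : c m = 1 := by rw [c, if_pos h]
theorem c3 : c 3 = 4 / 3 := by simp [c]
theorem c_ge {m : ℕ} (h : 4 ≤ m) : c m = 11 / 8 := by rw [c, if_neg (by omega), if_neg (by omega)]

theorem one_le_c (m : ℕ) : 1 ≤ c m := by unfold c; split_ifs <;> norm_num
theorem p_pos (m : ℕ) : 0 < p m := by have := x_pos; unfold p; split_ifs <;> positivity
theorem w_pos (m : ℕ) : 0 < w m := mul_pos (pow_pos x_pos _) (p_pos _)
theorem w0 : w 0 = 1 := by simp [w, p0]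
theorem w1 : w 1 = 1 := by rw [w, p1]; linarith [x_sq]
theorem w_ge {m : ℕ} (h : 3 ≤ m) : w m = x ^ (m - 1) := by
  obtain ⟨k, rfl⟩ : ∃ k, m = k + 1 := ⟨m - 1, by omega⟩
  rw [w, p_ge h, Nat.add_sub_cancel, pow_succ]
  linear_combination x ^ k / 3 * x_sq

theorem pw (j k : ℕ) (h : j ≤ k) : x ^ j ≤ x ^ k := pow_le_pow_right₀ (by linarith [x_gt]) h

theorem one_le_w (m : ℕ) : 1 ≤ w m := by
  rcases (show m = 0 ∨ m = 1 ∨ m = 2 ∨ 3 ≤ m by omega) with rfl | rfl | rfl | h
  · exact w0.ge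
  · exact w1.ge
  · rw [w, p2, x2]; norm_num
  · rw [w_ge h]; simpa using pw 0 _ (Nat.zero_le _)

theorem n0 (m n : ℕ) (hm : 1 ≤ m) : w m * w n ≤ w (m + n) := by
  have h : p m * p n ≤ p (m + n) := by
    have := x_sq; have := x_gt; have := x_lt
    rcases (show m = 1 ∨ m = 2 ∨ 3 ≤ m by omega) with rfl | rfl | h <;>
    rcases (show n = 0 ∨ n = 1 ∨ n = 2 ∨ 3 ≤ n by omega) with rfl | rfl | rfl | h' <;>
    simp (disch := omega) only [Nat.reduceAdd, p0, p1, p2, p_ge] <;> nlinarith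
  have := mul_le_mul_of_nonneg_left h (pow_pos x_pos (m + n)).le
  simp only [w]
  rw [pow_add] at this ⊢
  linarith

theorem n2 (m n : ℕ) (hm : 1 ≤ m) :
    w m * (c (n + 1) * w (n + 1)) + c m * w m * w n ≤ c (m + n + 1) * w (m + n + 1) := by
  have h : p m * (c (n + 1) * x * p (n + 1)) + c m * p m * p n ≤ c (m + n + 1) * x * p (m + n + 1) := by
    have := x_sq; have := x_gt; have := x_lt
    have h3 : x * x * x = 3 * x := by rw [x_sq]
    rcases (show m = 1 ∨ m = 2 ∨ m = 3 ∨ 4 ≤ m by omega) with rfl | rfl | rfl | h <;>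
    rcases (show n = 0 ∨ n = 1 ∨ n = 2 ∨ 3 ≤ n by omega) with rfl | rfl | rfl | h' <;>
    simp (disch := omega) only [Nat.reduceAdd, p0, p1, p2, p_ge, c_le, c3, c_ge] <;> nlinarith
  have := mul_le_mul_of_nonneg_left h (pow_pos x_pos (m + n)).le
  simp only [w, pow_succ]
  rw [pow_add] at this ⊢
  linarith

theorem n1 (m n : ℕ) (hm : 1 ≤ m) :
    1 + (w m * (c (n + 1) * w (n + 1)) + (c m - 1) * w m * w n) ≤ w (m + n + 1) := by
  have h : 1 ≤ x ^ (m + n) *
      (x * p (m + n + 1) - (p m * (c (n + 1) * x * p (n + 1)) + (c m - 1) * p m * p n)) := by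
    have := x_sq; have := x_gt; have := x_lt
    have h3 : x * x * x = 3 * x := by rw [x_sq]
    have h4 : 4 ≤ m + n → (1 / 9 : ℝ) ≤ x * p (m + n + 1) - (p m * (c (n + 1) * x * p (n + 1)) + (c m - 1) * p m * p n) →
        1 ≤ x ^ (m + n) *
      (x * p (m + n + 1) - (p m * (c (n + 1) * x * p (n + 1)) + (c m - 1) * p m * p n)) := fun a b => by
      have := pw 4 _ a
      rw [x4] at this
      nlinarith
    have h5 : 5 ≤ m + n → (1 / 15 : ℝ) ≤ x * p (m + n + 1) - (p m * (c (n + 1) * x * p (n + 1)) + (c m - 1) * p m * p n) →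
        1 ≤ x ^ (m + n) *
      (x * p (m + n + 1) - (p m * (c (n + 1) * x * p (n + 1)) + (c m - 1) * p m * p n)) := fun a b => by
      have := pw 5 _ a
      rw [x5] at this
      nlinarith
    rcases (show m = 1 ∨ m = 2 ∨ m = 3 ∨ 4 ≤ m by omega) with rfl | rfl | rfl | h <;>
    rcases (show n = 0 ∨ n = 1 ∨ n = 2 ∨ 3 ≤ n by omega) with rfl | rfl | rfl | h' <;>
    first
    | (refine h5 (by omega) ?_
       simp (disch := omega) only [Nat.reduceAdd, p0, p1, p2, p_ge, c_le, c3, c_ge]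
       nlinarith)
    | (refine h4 (by omega) ?_
       simp (disch := omega) only [Nat.reduceAdd, p0, p1, p2, p_ge, c_le, c3, c_ge]
       nlinarith)
    | (simp (disch := omega) only [Nat.reduceAdd, p0, p1, p2, p_ge, c_le, c3, c_ge, pow_one, x2, x3]
       nlinarith)
  simp only [w, pow_succ]
  rw [pow_add] at h ⊢
  linarith

theorem n3 (m : ℕ) (hm : 2 ≤ m) : w (m - 1) * (w (m + 1) - 1) ≤ w m * w m := by
  have := x_sq; have := x_gt; have := x_lt
  rcases (show m = 2 ∨ m = 3 ∨ 4 ≤ m by omega) with rfl | rfl | h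
  · simp (disch := omega) only [w, Nat.reduceAdd, Nat.reduceSub, p1, p2, p_ge, pow_one, x2, x3]; nlinarith
  · simp (disch := omega) only [w, Nat.reduceAdd, Nat.reduceSub, p1, p2, p_ge, pow_one, x2, x3, x4]; nlinarith
  · obtain ⟨k, rfl⟩ : ∃ k, m = k + 1 := ⟨m - 1, by omega⟩
    have := w_pos k
    have e : w k * w (k + 1 + 1) = w (k + 1) * w (k + 1) := by
      simp (disch := omega) only [w, p_ge, pow_succ]; ring
    rw [Nat.add_sub_cancel]
    nlinarith

end CL.KB
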