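import Cfsg.Agent.PERM.KB.Num

/-! Orbit weights of a permutation group. -/

set_option autoImplicit false
open Finset

namespace CL.KB

variable {α : Type*} [Fintype α] [DecidableEq α]

open Classical in
/-- the orbit as a finset -/
noncomputable def orb (K : Subgroup (Equiv.Perm α)) (a : α) : Finset α :=
  univ.filter fun b => ∃ k ∈ K, k a = b

variable {K L : Subgroup (Equiv.Perm α)} {a b s : α} {T : Finset α}

theorem mem_orb : b ∈ orb K a ↔ ∃ k ∈ K, k a = b := by simp [orb]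

theorem self_mem (K : Subgroup (Equiv.Perm α)) (a : α) : a ∈ orb K a := mem_orb.2 ⟨1, K.one_mem, rfl⟩

theorem orb_eq (h : b ∈ orb K a) : orb K b = orb K a := by
  obtain ⟨k, hk, rfl⟩ := mem_orb.1 h
  ext d
  simp only [mem_orb]
  exact ⟨fun ⟨l, hl, e⟩ => ⟨l * k, K.mul_mem hl hk, e⟩,
    fun ⟨l, hl, e⟩ => ⟨l * k⁻¹, K.mul_mem hl (K.inv_mem hk), by simpa using e⟩⟩

theorem orb_mono (h : L ≤ K) (a : α) : orb L a ⊆ orb K a := fun _ hb =>
  let ⟨k, hk, e⟩ := mem_orb.1 hb; mem_orb.2 ⟨k, h hk, e⟩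

theorem orb_fix (h : ∀ k ∈ K, k a = a) : orb K a = {a} := by
  ext d
  rw [mem_orb, mem_singleton]
  exact ⟨fun ⟨k, hk, e⟩ => e ▸ h k hk, fun e => ⟨1, K.one_mem, e.symm⟩⟩

/-- invariant sets -/
def Iv (K : Subgroup (Equiv.Perm α)) (T : Finset α) : Prop := ∀ a ∈ T, orb K a ⊆ T

theorem Iv.mono (h : Iv K T) (hl : L ≤ K) : Iv L T := fun a ha => (orb_mono hl a).trans (h a ha)
theorem iv_orb (K : Subgroup (Equiv.Perm α)) (a : α) : Iv K (orb K a) := fun _ hb => (orb_eq hb).le
theorem iv_univ (K : Subgroup (Equiv.Perm α)) : Iv K univ := fun _ _ => subset_univ _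
theorem Iv.sdiff {U : Finset α} (h : Iv K T) (hU : Iv K U) : Iv K (T \ U) := fun a ha b hb => by
  rw [mem_sdiff] at ha ⊢
  exact ⟨h a ha.1 hb, fun hb' => ha.2 (hU b hb' (orb_eq hb ▸ self_mem K a))⟩

noncomputable def P (K : Subgroup (Equiv.Perm α)) (T : Finset α) : ℝ :=
  ∏ D ∈ T.image (orb K), w D.card
noncomputable def S (K : Subgroup (Equiv.Perm α)) (T : Finset α) : ℝ :=
  ∑ D ∈ T.image (orb K), c D.card

theorem P_pos (K : Subgroup (Equiv.Perm α)) (T : Finset α) : 0 < P K T := prod_pos fun _ _ => w_pos _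
theorem one_le_P (K : Subgroup (Equiv.Perm α)) (T : Finset α) : 1 ≤ P K T :=
  Finset.one_le_prod fun _ _ => one_le_w _
theorem S_nn (K : Subgroup (Equiv.Perm α)) (T : Finset α) : 0 ≤ S K T :=
  sum_nonneg fun _ _ => zero_le_one.trans (one_le_c _)

theorem split {U : Finset α} (hU : Iv K U) (h : U ⊆ T) :
    P K T = P K U * P K (T \ U) ∧ S K T = S K U + S K (T \ U) := by
  have hd : Disjoint (U.image (orb K)) ((T \ U).image (orb K)) := by
    rw [disjoint_left]
    intro D h1 h2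
    obtain ⟨a, ha, rfl⟩ := mem_image.1 h1
    obtain ⟨b, hb, e⟩ := mem_image.1 h2
    exact (mem_sdiff.1 hb).2 (hU a ha (e ▸ self_mem K b))
  have e : T.image (orb K) = U.image (orb K) ∪ (T \ U).image (orb K) := by
    rw [← image_union, union_sdiff_of_subset h]
  exact ⟨by rw [P, e, prod_union hd]; rfl, by rw [S, e, sum_union hd]; rfl⟩

theorem img_orb (K : Subgroup (Equiv.Perm α)) (a : α) : (orb K a).image (orb K) = {orb K a} := by
  ext D
  rw [mem_image, mem_singleton]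
  exact ⟨fun ⟨b, hb, e⟩ => e ▸ orb_eq hb, fun e => ⟨a, self_mem K a, e.symm⟩⟩

theorem P_orb (K : Subgroup (Equiv.Perm α)) (a : α) : P K (orb K a) = w (orb K a).card := by
  rw [P, img_orb, prod_singleton]
theorem S_orb (K : Subgroup (Equiv.Perm α)) (a : α) : S K (orb K a) = c (orb K a).card := by
  rw [S, img_orb, sum_singleton]

theorem card_pos (K : Subgroup (Equiv.Perm α)) (a : α) : 1 ≤ (orb K a).card :=
  Finset.card_pos.2 ⟨a, self_mem K a⟩

theorem ind {Q : Finset α → Prop} (h0 : Q ∅)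
    (h1 : ∀ T a, Iv K T → a ∈ T → Q (T \ orb K a) → Q T) (T : Finset α) (hT : Iv K T) : Q T := by
  induction T using Finset.strongInduction with
  | H T ih =>
    rcases T.eq_empty_or_nonempty with rfl | ⟨a, ha⟩
    · exact h0
    · exact h1 T a hT ha (ih _ (sdiff_ssubset (hT a ha) ⟨a, self_mem K a⟩) (hT.sdiff (iv_orb K a)))

theorem key (hT : Iv K T) : P K T ≤ w T.card ∧ P K T * (1 + S K T) ≤ c (T.card + 1) * w (T.card + 1) ∧
    (T.Nonempty → 1 + P K T * S K T ≤ w (T.card + 1)) := by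
  refine ind (K := K) (Q := fun T => P K T ≤ w T.card ∧
    P K T * (1 + S K T) ≤ c (T.card + 1) * w (T.card + 1) ∧
    (T.Nonempty → 1 + P K T * S K T ≤ w (T.card + 1))) ?_ ?_ T hT
  · simp [P, S, w0, w1, c_le]
  · rintro T a hT ha ⟨i1, i2, -⟩
    obtain ⟨e1, e2⟩ := split (iv_orb K a) (hT a ha)
    have e3 : T.card = (orb K a).card + (T \ orb K a).card := by
      rw [add_comm, card_sdiff_add_card_eq_card (hT a ha)]
    rw [e1, e2, e3, P_orb, S_orb]
    have hm := card_pos K a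
    generalize (orb K a).card = m at *
    generalize (T \ orb K a).card = n at *
    have hw := w_pos m
    have hc := one_le_c m
    have j1 := mul_le_mul_of_nonneg_left i1 hw.le
    have j2 := mul_le_mul_of_nonneg_left i2 hw.le
    have j3 := mul_le_mul_of_nonneg_left j1 (sub_nonneg.2 hc)
    refine ⟨j1.trans (n0 m n hm), ?_, fun _ => ?_⟩
    · linarith [n2 m n hm]
    · linarith [n1 m n hm]

theorem P_mono (h : L ≤ K) (hT : Iv K T) : P L T ≤ P K T := by
  refine ind (K := K) (Q := fun T => P L T ≤ P K T) (by simp [P]) ?_ T hT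
  intro T a hT ha ih
  rw [(split (iv_orb K a) (hT a ha)).1, (split ((iv_orb K a).mono h) (hT a ha)).1, P_orb]
  exact mul_le_mul (key ((iv_orb K a).mono h)).1 ih (P_pos _ _).le (w_pos _).le

theorem P_fix (h : ∀ a ∈ T, ∀ k ∈ K, k a = a) : P K T = 1 :=
  prod_eq_one fun D hD => by
    obtain ⟨a, ha, rfl⟩ := mem_image.1 hD
    rw [orb_fix (h a ha), card_singleton, w1]

theorem erase (hT : Iv K T) (hs : s ∈ T) (h : ∀ k ∈ K, k s = s) :
    Iv K (T \ {s}) ∧ P K T = P K (T \ {s}) ∧ S K T = 1 + S K (T \ {s}) := by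
  have e := orb_fix h
  obtain ⟨e1, e2⟩ := split (iv_orb K s) (hT s hs)
  rw [P_orb] at e1
  rw [S_orb] at e2
  rw [e, card_singleton] at e1 e2
  exact ⟨e ▸ hT.sdiff (iv_orb K s), by rw [e1, w1, one_mul], by rw [e2, c_le (by norm_num)]⟩

/-- the start of the path lies in another orbit of the same length -/
theorem out (h : L ≤ K) (hs : ∀ k ∈ L, k s = s) (hb : s ∉ orb K b)
    (e : (orb K s).card = (orb K b).card) (h2 : 2 ≤ (orb K b).card) :
    P L univ * S L (orb K b) ≤ P K univ := by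
  have hi := (iv_univ K).sdiff (iv_orb K b)
  have hs' := hi s (mem_sdiff.2 ⟨mem_univ _, hb⟩)
  have a1 := (split (iv_orb K b) (subset_univ _)).1
  have a2 := (split (iv_orb K s) hs').1
  have b1 := (split ((iv_orb K b).mono h) (subset_univ _)).1
  have b2 := (split ((iv_orb K s).mono h) hs').1
  obtain ⟨c1, c2, -⟩ := erase ((iv_orb K s).mono h) (self_mem K s) hs
  have c3 := (key c1).1
  rw [card_sdiff_of_subset (singleton_subset_iff.2 (self_mem K s)), card_singleton, e, ← c2] at c3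
  have d1 := (key ((iv_orb K b).mono h)).2.2 ⟨b, self_mem K b⟩
  have d2 := P_mono h (hi.sdiff (iv_orb K s))
  have d3 := n3 _ h2
  rw [a1, a2, b1, b2, P_orb, P_orb, e]
  have f1 : P L (orb K s) * (P L (orb K b) * S L (orb K b)) ≤ w (orb K b).card * w (orb K b).card :=
    (mul_le_mul c3 (by linarith) (mul_nonneg (P_pos _ _).le (S_nn _ _)) (w_pos _).le).trans d3
  have f2 := mul_le_mul f1 d2 (P_pos _ _).le (mul_pos (w_pos _) (w_pos _)).le
  linarith

theorem card_orb (K : Subgroup (Equiv.Perm α)) (a : α) :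
    (orb K a).card * Nat.card ↥(K ⊓ MulAction.stabilizer (Equiv.Perm α) a) = Nat.card K := by
  have e1 : (orb K a).card = (MulAction.stabilizer K a).index := by
    rw [MulAction.index_stabilizer, ← Set.ncard_coe_finset]
    congr 1
    ext b
    rw [mem_coe, mem_orb]
    exact ⟨fun ⟨k, hk, e⟩ => ⟨⟨k, hk⟩, e⟩, fun ⟨k, e⟩ => ⟨k, k.2, e⟩⟩
  have e2 : MulAction.stabilizer K a = (K ⊓ MulAction.stabilizer (Equiv.Perm α) a).subgroupOf K := by
    ext k
    simp [Subgroup.mem_subgroupOf, MulAction.mem_stabilizer_iff, Subgroup.smul_def]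
  rw [e1, ← Subgroup.index_mul_card (MulAction.stabilizer K a), e2,
    Nat.card_congr (Subgroup.subgroupOfEquivOfLe inf_le_left).toEquiv]

/-- the conjugate subgroup -/
def cj (K : Subgroup (Equiv.Perm α)) (y : Equiv.Perm α) : Subgroup (Equiv.Perm α) :=
  K.map (MulAut.conj y).toMonoidHom

theorem mem_cj {y k : Equiv.Perm α} : k ∈ cj K y ↔ y⁻¹ * k * y ∈ K :=
  ⟨fun ⟨l, hl, e⟩ => by rw [← e]; simpa [mul_assoc] using hl,
    fun h => ⟨_, h, by simp [mul_assoc]⟩⟩

theorem card_cj (K : Subgroup (Equiv.Perm α)) (y : Equiv.Perm α) : Nat.card (cj K y) = Nat.card K :=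
  Subgroup.card_map_of_injective (MulAut.conj y).injective

theorem orb_cj (K : Subgroup (Equiv.Perm α)) (y : Equiv.Perm α) (a : α) :
    orb (cj K y) (y a) = (orb K a).image y := by
  ext b
  simp only [mem_image, mem_orb, mem_cj]
  exact ⟨fun ⟨k, hk, e⟩ => ⟨_, ⟨_, hk, rfl⟩, by simpa using e⟩,
    fun ⟨d, ⟨k, hk, e⟩, e'⟩ => ⟨y * k * y⁻¹, by simpa [mul_assoc] using hk, by simp [e, e']⟩⟩

theorem P_cj (K : Subgroup (Equiv.Perm α)) (y : Equiv.Perm α) : P (cj K y) univ = P K univ := by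
  have e : univ.image (orb (cj K y)) = (univ.image (orb K)).image (image y) := by
    ext D
    simp only [mem_image, mem_univ, true_and]
    exact ⟨fun ⟨b, e⟩ => ⟨_, ⟨y⁻¹ b, rfl⟩, by rw [← orb_cj, ← e]; simp⟩,
      fun ⟨_, ⟨a, e⟩, e'⟩ => ⟨y a, by rw [orb_cj, e, e']⟩⟩
  rw [P, e, prod_image (image_injective y.injective).injOn]
  exact prod_congr rfl fun D _ => by rw [card_image_of_injective _ y.injective]

end CL.KB
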